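import Cfsg.Agent.Lib.Fi22Centre.Setting

/-!
# The two kinds of coordinates of a `Fi22Centre.Setting`

* `NatData`: `J/Z` is the natural module of `U₄(2)`;
* `PlaneData`: `H1` fixes a plane of `J/Z`, and `a` lies in the derived group of `H1`.
-/

set_option autoImplicit false

namespace Cfsg.Agent.Fi22Centre

open Subgroup LargeExtraspecial U6Local

variable {G : Type*} [Group G]

/-- Coordinates in the natural case. -/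
structure NatData {z a : G} (S : Setting z a) where
  /-- the action of `H1` -/
  P : G → M4
  P_mul : ∀ c ∈ S.H1, ∀ d ∈ S.H1, P (c * d) = P c * P d
  P_surj : ∀ m : M4, ∃ c ∈ S.H1, P c = m
  P_ker : ∀ c ∈ S.H1, (P c = 1 ↔ c ∈ coreAt z)
  /-- coordinates on `J` -/
  φ : G → V4
  φ_mul : ∀ j ∈ coreAt z, ∀ k ∈ coreAt z, φ (j * k) = φ j + φ k
  φ_surj : ∀ x : V4, ∃ j ∈ coreAt z, φ j = x
  φ_ker : ∀ j ∈ coreAt z, (φ j = 0 ↔ j ∈ S.Z)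
  φ_sq : ∀ j ∈ coreAt z, (j * j = 1 ↔ hh (φ j) (φ j) = 0)
  φ_conj : ∀ c ∈ S.H1, ∀ j ∈ coreAt z, φ (c * j * c⁻¹) = app (P c) (φ j)
  /-- only `H1` centralises `H1` modulo `J` -/
  faithM : ∀ c, Commute c z → (∀ h ∈ S.H1, c * h * c⁻¹ * h⁻¹ ∈ coreAt z) → c ∈ S.H1

/-- Data in the plane case. -/
structure PlaneData {z a : G} (S : Setting z a) where
  /-- the action of `H1` -/
  P : G → M4
  P_mul : ∀ c ∈ S.H1, ∀ d ∈ S.H1, P (c * d) = P c * P d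
  P_surj : ∀ m : M4, ∃ c ∈ S.H1, P c = m
  P_ker : ∀ c ∈ S.H1, (P c = 1 ↔ c ∈ coreAt z)
  /-- the plane -/
  Y : Subgroup G
  Y_le : Y ≤ coreAt z
  Z_le_Y : S.Z ≤ Y
  fix : ∀ c ∈ S.H1, ∀ y ∈ Y, c * y * c⁻¹ * y⁻¹ ∈ S.Z
  gen : coreAt z ≤ Y ⊔ ⁅S.H1, coreAt z⁆
  perf : S.H1 ≤ coreAt z ⊔ ⁅S.H1, S.H1⁆
  /-- an element over `dLast` fixes only the plane -/
  dLast_fix : ∀ h ∈ S.H1, P h = dLast → ∀ j ∈ coreAt z, h * j * h⁻¹ * j⁻¹ ∈ S.Z → j ∈ Y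
  a_derived : a ∈ ⁅S.H1, S.H1⁆

end Cfsg.Agent.Fi22Centre
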