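import Cfsg.Agent.Lib.U6Local.SemiCore
import Cfsg.Agent.Lib.PGroup.CyclicDerived

/-!
# An involution `z` whose centraliser has `O₂ = 2 × 2^{1+8}`

`Setting z a`: `J = O₂(C(z))` has derived group `⟨z⟩` and centre `Z = {1, z, a, az}`; `H1` is a
subgroup of index at most two of `C(z)` centralising `a`.

* `Setting.eps_*`: commutators in `J`;
* `Setting.Fix c`: the part of `J` fixed modulo `Z` by `c`;
* `Shape`: what is used of the action of `H1` on `J/Z`, in the natural and in the plane case.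
-/

set_option autoImplicit false

namespace Cfsg.Agent.Fi22Centre

open Subgroup LargeExtraspecial

variable {G : Type*} [Group G]

/-- The setting. -/
structure Setting (z a : G) where
  z_ne : z ≠ 1
  z_sq : z * z = 1
  a_ne : a ≠ 1
  a_sq : a * a = 1
  a_ne_z : a ≠ z
  z_mem : z ∈ coreAt z
  a_mem : a ∈ coreAt z
  central : ∀ q ∈ coreAt z, Commute q z
  central_a : ∀ q ∈ coreAt z, Commute q a
  comm : ∀ p ∈ coreAt z, ∀ q ∈ coreAt z, p * q * p⁻¹ = q ∨ p * q * p⁻¹ = q * z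
  sq_cases : ∀ q ∈ coreAt z, q * q = 1 ∨ q * q = z
  self : ∀ c, Commute c z → (∀ q ∈ coreAt z, Commute c q) → c = 1 ∨ c = z ∨ c = a ∨ c = a * z
  normalizes : ∀ c, Commute c z → ∀ q ∈ coreAt z, c * q * c⁻¹ ∈ coreAt z
  card_core : Nat.card ↥(coreAt z) = 1024
  /-- the subgroup of index two -/
  H1 : Subgroup G
  H1_le : ∀ c ∈ H1, Commute c z
  core_le : coreAt z ≤ H1
  half : ∀ c d : G, Commute c z → Commute d z → c ∉ H1 → d ∉ H1 → c * d ∈ H1
  comm_a : ∀ c ∈ H1, Commute c a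
  /-- only `J` is trivial on `J/Z` -/
  faith : ∀ c, Commute c z → (∀ j ∈ coreAt z, c * j * c⁻¹ * j⁻¹ = 1 ∨ c * j * c⁻¹ * j⁻¹ = z ∨
    c * j * c⁻¹ * j⁻¹ = a ∨ c * j * c⁻¹ * j⁻¹ = a * z) → c ∈ coreAt z
  nconj : ∀ x : G, x * z * x⁻¹ ≠ a ∧ x * z * x⁻¹ ≠ a * z

/-- `1` when `p` and `q` commute. -/
noncomputable def eps (p q : G) : ZMod 2 :=
  haveI := Classical.dec (Commute p q)
  if Commute p q then 0 else 1

theorem eps_eq_zero {p q : G} : eps p q = 0 ↔ Commute p q := by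
  by_cases h : Commute p q <;> simp [eps, h]

theorem eps_symm (p q : G) : eps p q = eps q p := by
  by_cases h : Commute p q
  · rw [eps_eq_zero.2 h, eps_eq_zero.2 h.symm]
  · have h' : ¬ Commute q p := fun e => h e.symm
    simp [eps, h, h']

namespace Setting

variable {z a : G} (S : Setting z a)
include S

theorem comm_za : Commute a z := S.central a S.a_mem

theorem z_inv : z⁻¹ = z := inv_eq_of_mul_eq_one_right S.z_sq

theorem a_inv : a⁻¹ = a := inv_eq_of_mul_eq_one_right S.a_sq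

theorem az_sq : a * z * (a * z) = 1 := by
  rw [S.comm_za.symm.mul_mul_mul_comm, S.a_sq, S.z_sq, one_mul]

theorem az_mem : a * z ∈ coreAt z := mul_mem S.a_mem S.z_mem

/-- The centre of `J`. -/
def Z : Subgroup G where
  carrier := {c | c = 1 ∨ c = z ∨ c = a ∨ c = a * z}
  one_mem' := Or.inl rfl
  mul_mem' := by
    have hza : z * a = a * z := S.comm_za.eq.symm
    rintro c d (h | h | h | h) (h' | h' | h' | h') <;> rw [Set.mem_ofPred_eq, h, h'] <;>
      simp [← mul_assoc, S.z_sq, S.a_sq, hza, mul_assoc a z z, mul_assoc a z a]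
  inv_mem' := by
    rintro c (h | h | h | h) <;> rw [Set.mem_ofPred_eq, h] <;>
      simp [S.z_inv, S.a_inv, S.comm_za.eq]

theorem mem_Z {c : G} : c ∈ S.Z ↔ c = 1 ∨ c = z ∨ c = a ∨ c = a * z := Iff.rfl

theorem z_Z : z ∈ S.Z := Or.inr (Or.inl rfl)

theorem a_Z : a ∈ S.Z := Or.inr (Or.inr (Or.inl rfl))

theorem az_Z : a * z ∈ S.Z := Or.inr (Or.inr (Or.inr rfl))

theorem Z_le : S.Z ≤ coreAt z := by
  rintro c (h | h | h | h) <;> rw [h]
  exacts [one_mem _, S.z_mem, S.a_mem, S.az_mem]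

theorem Z_sq {c : G} (hc : c ∈ S.Z) : c * c = 1 := by
  rcases hc with h | h | h | h <;> rw [h]
  exacts [one_mul 1, S.z_sq, S.a_sq, S.az_sq]

theorem central_Z {c q : G} (hc : c ∈ S.Z) (hq : q ∈ coreAt z) : Commute q c := by
  rcases hc with h | h | h | h <;> rw [h]
  exacts [Commute.one_right q, S.central q hq, S.central_a q hq,
    (S.central_a q hq).mul_right (S.central q hq)]

theorem card_Z [Finite G] : Nat.card ↥S.Z = 4 := by
  classical
  have h1 : a * z ≠ 1 := fun h => S.a_ne_z ((eq_inv_of_mul_eq_one_left h).trans S.z_inv)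
  have h2 : a * z ≠ a := fun h => S.z_ne (mul_eq_left.1 h)
  have h3 : a * z ≠ z := fun h => S.a_ne (mul_eq_right.1 h)
  have e : Nat.card ↥S.Z = Nat.card ↥(({1, z, a, a * z} : Finset G)) :=
    Nat.card_congr (Equiv.subtypeEquivRight fun c => by simp [S.mem_Z])
  rw [e, Nat.card_eq_finsetCard]
  simp [S.z_ne.symm, S.a_ne.symm, h1.symm, S.a_ne_z.symm, h2.symm, h3.symm]

theorem conj_mem {c j : G} (hc : Commute c z) (hj : j ∈ coreAt z) : c * j * c⁻¹ ∈ coreAt z :=
  S.normalizes c hc j hj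

theorem isTwo [Finite G] : IsPGroup 2 ↥(coreAt z) :=
  IsPGroup.of_card (n := 10) (by rw [S.card_core]; norm_num)

/-- The subgroup `H1` has index at most two in `C(z)`. -/
theorem mul_mem_iff {c d : G} (hc : Commute c z) (hd : Commute d z) :
    c * d ∈ S.H1 ↔ (c ∈ S.H1 ↔ d ∈ S.H1) := by
  by_cases h1 : c ∈ S.H1 <;> by_cases h2 : d ∈ S.H1
  · simp [h1, h2, mul_mem h1 h2]
  · simp only [h1, h2, iff_false, not_true, iff_false]
    intro h; exact h2 (by simpa using mul_mem (inv_mem h1) h)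
  · simp only [h1, h2, false_iff, not_true, iff_false]
    intro h; exact h1 (by simpa using mul_mem h (inv_mem h2))
  · simp [h1, h2, S.half c d hc hd h1 h2]

theorem conj_H1_iff {c d : G} (hc : Commute c z) (hd : Commute d z) :
    c * d * c⁻¹ ∈ S.H1 ↔ d ∈ S.H1 := by
  rw [S.mul_mem_iff (hc.mul_left hd) hc.inv_left, S.mul_mem_iff hc hd, inv_mem_iff]
  tauto

theorem sq_H1 {c : G} (hc : Commute c z) : c * c ∈ S.H1 := (S.mul_mem_iff hc hc).2 Iff.rfl

/-- Commutators of `C(z)` lie in `H1`. -/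
theorem commutator_H1 {c d : G} (hc : Commute c z) (hd : Commute d z) :
    c * d * c⁻¹ * d⁻¹ ∈ S.H1 := by
  rw [S.mul_mem_iff ((hc.mul_left hd).mul_left hc.inv_left) hd.inv_left, S.conj_H1_iff hc hd,
    inv_mem_iff]

/-- Commutation in `J`. -/
theorem conj_eq_mul_z {p q : G} (hp : p ∈ coreAt z) (hq : q ∈ coreAt z) (h : ¬ Commute p q) :
    p * q * p⁻¹ = q * z :=
  (S.comm p hp q hq).resolve_left fun e => h (mul_inv_eq_iff_eq_mul.1 e)

theorem eps_mul_left {p p' q : G} (hp : p ∈ coreAt z) (hp' : p' ∈ coreAt z) (hq : q ∈ coreAt z) :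
    eps (p * p') q = eps p q + eps p' q := by
  by_cases h : Commute p q <;> by_cases h' : Commute p' q
  · rw [eps_eq_zero.2 h, eps_eq_zero.2 h', eps_eq_zero.2 (h.mul_left h'), add_zero]
  · have hn : ¬ Commute (p * p') q := fun e => h' (by simpa using h.inv_left.mul_left e)
    simp [eps, h, h', hn]
  · have hn : ¬ Commute (p * p') q := fun e => h (by simpa using e.mul_left h'.inv_left)
    simp [eps, h, h', hn]
  · have hc : Commute (p * p') q := mul_inv_eq_iff_eq_mul.1 (by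
      calc p * p' * q * (p * p')⁻¹ = p * (p' * q * p'⁻¹) * p⁻¹ := by group
        _ = (p * q * p⁻¹) * (p * z * p⁻¹) := by rw [S.conj_eq_mul_z hp' hq h']; group
        _ = q := by
          rw [S.conj_eq_mul_z hp hq h, (S.central p hp).eq, mul_inv_cancel_right, mul_assoc,
            S.z_sq, mul_one])
    have : (1 : ZMod 2) + 1 = 0 := by decide
    simp [eps, h, h', hc, this]

theorem eps_mul_right {p q q' : G} (hp : p ∈ coreAt z) (hq : q ∈ coreAt z) (hq' : q' ∈ coreAt z) :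
    eps p (q * q') = eps p q + eps p q' := by
  rw [eps_symm, S.eps_mul_left hq hq' hp, eps_symm q p, eps_symm q' p]

omit S in
theorem eps_conj {c p q : G} : eps (c * p * c⁻¹) (c * q * c⁻¹) = eps p q := by
  by_cases h : Commute p q
  · rw [eps_eq_zero.2 h, eps_eq_zero.2 (show Commute (c * p * c⁻¹) (c * q * c⁻¹) by
      simpa using h.map (MulAut.conj c).toMonoidHom)]
  · have : ¬ Commute (c * p * c⁻¹) (c * q * c⁻¹) := fun e => h (by
      simpa [mul_assoc] using e.map (MulAut.conj c⁻¹).toMonoidHom)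
    simp [eps, h, this]

/-- The part of `J` fixed modulo `Z` by `c`. -/
def Fix {c : G} (hc : Commute c z) : Subgroup G where
  carrier := {k | k ∈ coreAt z ∧ c * k * c⁻¹ * k⁻¹ ∈ S.Z}
  one_mem' := ⟨one_mem _, by simp [S.Z.one_mem]⟩
  mul_mem' := by
    rintro k l ⟨hk, hk'⟩ ⟨hl, hl'⟩
    refine ⟨mul_mem hk hl, ?_⟩
    have e : c * (k * l) * c⁻¹ * (k * l)⁻¹ =
        (c * k * c⁻¹ * k⁻¹) * (k * (c * l * c⁻¹ * l⁻¹) * k⁻¹) := by group
    rw [e, (S.central_Z hl' hk).eq, mul_inv_cancel_right]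
    exact mul_mem hk' hl'
  inv_mem' := by
    rintro k ⟨hk, hk'⟩
    refine ⟨inv_mem hk, ?_⟩
    have e : c * k⁻¹ * c⁻¹ * k⁻¹⁻¹ = k⁻¹ * (c * k * c⁻¹ * k⁻¹)⁻¹ * k := by group
    rw [e, (S.central_Z (inv_mem hk') (inv_mem hk)).eq, inv_mul_cancel_right]
    exact inv_mem hk'

theorem mem_Fix {c : G} (hc : Commute c z) {k : G} :
    k ∈ S.Fix hc ↔ k ∈ coreAt z ∧ c * k * c⁻¹ * k⁻¹ ∈ S.Z := Iff.rfl

theorem mem_Fix_of_commute {c : G} (hc : Commute c z) {k : G} (hk : k ∈ coreAt z)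
    (h : Commute c k) : k ∈ S.Fix hc := ⟨hk, by rw [h.eq]; simp [S.Z.one_mem]⟩

theorem Fix_le {c : G} (hc : Commute c z) : S.Fix hc ≤ coreAt z := fun _ h => h.1

end Setting

/-- What is used of the action of `H1` on `J/Z`. -/
structure Shape {z a : G} (S : Setting z a) : Prop where
  /-- two commuting involutions with equal centralisers in `J` differ by an element of `J` -/
  split : ∀ c ∈ S.H1, ∀ e ∈ S.H1, c * c = 1 → e * e = 1 → Commute c e → c ∉ coreAt z →
    (∀ k ∈ coreAt z, (Commute k c ↔ Commute k e)) →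
    (∀ h ∈ S.H1, Commute h c → Commute (h * h) e) → e ∈ coreAt z ∨ c * e ∈ coreAt z
  /-- commutators with an involution of `H1` are involutions -/
  sing : ∀ c ∈ S.H1, c * c = 1 → ∀ k ∈ coreAt z,
    c * k * c⁻¹ * k⁻¹ * (c * k * c⁻¹ * k⁻¹) = 1
  /-- an element moving the quotient by a fixed part of index at most four -/
  move : ∀ (c : G) (hc : c ∈ S.H1), c * c = 1 → c ∉ coreAt z →
    Nat.card ↥(coreAt z) ≤ 4 * Nat.card ↥(S.Fix (S.H1_le c hc)) →
    ∃ h ∈ S.H1, h * c * h⁻¹ * c⁻¹ ∈ coreAt z ∧ ∀ k ∈ coreAt z, k ∉ S.Fix (S.H1_le c hc) →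
      h * h * k * (h * h)⁻¹ * k⁻¹ ∉ S.Fix (S.H1_le c hc)

end Cfsg.Agent.Fi22Centre
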